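import Cfsg.Agent.H678.S8.HSCount
import Cfsg.Agent.H686.CharKit
import Cfsg.Agent.Characters.GaloisBasic
import Cfsg.Agent.S0165
import Cfsg.Prelude.Def_DegreeGraph

/-!
# `HS` has no irreducible character of degree 512 (helper678, for S4908)

`|HS| = 44352000 = 2⁹·3²·5³·7·11`.  A character of degree 512 vanishes on the elements of even order, is 1 on the elements
of order 7 and `|χ|² = 3` on those of order 11; the remaining 5090624 elements of odd order are too few for
`∑ χ = 0` and `∑ |χ|² = |G|`.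
-/

set_option autoImplicit false

namespace Cfsg.Agent.H678.S8

open Cfsg Cfsg.Agent.Characters Cfsg.Agent.H686.CharKit
open Cfsg.Agent.H922.Ore.Gr (card_class)
open scoped ComplexConjugate

universe u

section general

variable {G : Type u} [Group G] [Finite G]

/-- An element of prime order `p` such that all elements of order divisible by `p` have order `p`. -/
theorem card_cent_of {p : ℕ} (hp : p.Prime) (hp2 : ¬ p ^ 2 ∣ Nat.card G)
    (hno : ∀ g : G, p ∣ orderOf g → orderOf g = p) {x : G} (hx : orderOf x = p) :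
    Nat.card (Subgroup.centralizer ({x} : Set G)) = p := by
  have hxC : x ∈ Subgroup.centralizer ({x} : Set G) := Subgroup.mem_centralizer_singleton_iff.2 rfl
  have h1 : p ∣ Nat.card (Subgroup.centralizer ({x} : Set G)) := hx ▸ (Subgroup.orderOf_dvd_natCard _ hxC)
  obtain ⟨m, hm⟩ := h1
  by_contra hne
  have hm1 : m ≠ 1 := by
    rintro rfl
    exact hne (by rw [hm, mul_one])
  obtain ⟨q, hq, hqm⟩ := Nat.exists_prime_and_dvd hm1
  have hqp : q ≠ p := by
    rintro rfl
    apply hp2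
    refine dvd_trans ?_ (Subgroup.card_subgroup_dvd_card (Subgroup.centralizer ({x} : Set G)))
    rw [hm, sq]
    exact Nat.mul_dvd_mul_left _ hqm
  have := Fact.mk hq
  obtain ⟨y, hy⟩ := exists_prime_orderOf_dvd_card' (G := Subgroup.centralizer ({x} : Set G)) q
    (hqm.trans ⟨p, by rw [hm]; ring⟩)
  have hxy : Commute x (y : G) := (Subgroup.mem_centralizer_singleton_iff.1 y.2).symm
  have hyo : orderOf (y : G) = q := by rw [Subgroup.orderOf_coe, hy]
  have h2 : orderOf (x * (y : G)) = p * q := by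
    rw [hxy.orderOf_mul_eq_mul_orderOf_of_coprime (by
      rw [hx, hyo]
      exact (Nat.coprime_primes hp hq).2 fun h => hqp h.symm), hx, hyo]
  have h3 := hno (x * (y : G)) (by rw [h2]; exact dvd_mul_right p q)
  rw [h2] at h3
  have h4 : q = 1 := Nat.eq_of_mul_eq_mul_left hp.pos (by rw [h3, mul_one])
  exact hq.one_lt.ne' h4

/-- If the number of elements of order `p` is `|G| / p` then they are all conjugate. -/
theorem conj_of_count {p : ℕ} (hcent : ∀ x : G, orderOf x = p → Nat.card (Subgroup.centralizer ({x} : Set G)) = p)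
    (hcount : Nat.card {g : G // orderOf g = p} * p = Nat.card G) {x y : G} (hx : orderOf x = p) (hy : orderOf y = p) :
    IsConj x y := by
  have hp : 0 < p := hx ▸ orderOf_pos x
  have h1 := card_class x
  rw [hcent x hx] at h1
  have h2 : Nat.card {y : G // IsConj x y} = Nat.card {g : G // orderOf g = p} :=
    Nat.eq_of_mul_eq_mul_right hp (h1.trans hcount.symm)
  have hord : ∀ y, IsConj x y → orderOf y = p := by
    intro y hy
    obtain ⟨k, rfl⟩ := isConj_iff.1 hy
    rw [← hx]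
    exact orderOf_injective (MulAut.conj k).toMonoidHom (MulAut.conj k).injective x
  let f : {y : G // IsConj x y} → {g : G // orderOf g = p} := fun y => ⟨y.1, hord y.1 y.2⟩
  have hf : Function.Injective f := fun a b h => Subtype.ext (congrArg (fun z : {g : G // orderOf g = p} => (z : G)) h)
  obtain ⟨⟨z, hz⟩, h3⟩ := (hf.bijective_of_nat_card_le h2.ge).2 ⟨y, hy⟩
  have h4 : z = y := congrArg Subtype.val h3
  rw [← h4]
  exact hz

/-- If the number of elements of order 11 is `2 |G| / 11` then `x` and `x⁴` are conjugate. -/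
theorem conj_four (hcent : ∀ x : G, orderOf x = 11 → Nat.card (Subgroup.centralizer ({x} : Set G)) = 11)
    (hcount : Nat.card {g : G // orderOf g = 11} * 11 = 2 * Nat.card G) {x : G} (hx : orderOf x = 11) :
    IsConj x (x ^ 4) := by
  have hx11 : x ^ 11 = 1 := hx ▸ pow_orderOf_eq_one x
  by_cases hc : IsConj x (x ^ 2)
  · obtain ⟨c, hc⟩ := isConj_iff.1 hc
    refine isConj_iff.2 ⟨c * c, ?_⟩
    calc c * c * x * (c * c)⁻¹ = c * (c * x * c⁻¹) * c⁻¹ := by group
      _ = (c * x * c⁻¹) ^ 2 := by rw [hc, ← conj_pow, hc]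
      _ = x ^ 4 := by rw [hc, ← pow_mul]
  have hx2 : orderOf (x ^ 2) = 11 := by
    rw [orderOf_pow, hx]
    decide
  have hx4 : orderOf (x ^ 4) = 11 := by
    rw [orderOf_pow, hx]
    decide
  have h1 := card_class x
  have h2 := card_class (x ^ 2)
  rw [hcent x hx] at h1
  rw [hcent _ hx2] at h2
  have hord : ∀ z y : G, orderOf z = 11 → IsConj z y → orderOf y = 11 := by
    intro z y hz hy
    obtain ⟨k, rfl⟩ := isConj_iff.1 hy
    rw [← hz]
    exact orderOf_injective (MulAut.conj k).toMonoidHom (MulAut.conj k).injective z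
  let f : {y : G // IsConj x y} ⊕ {y : G // IsConj (x ^ 2) y} → {g : G // orderOf g = 11} := fun s =>
    match s with
    | .inl y => ⟨y.1, hord x y.1 hx y.2⟩
    | .inr y => ⟨y.1, hord (x ^ 2) y.1 hx2 y.2⟩
  have hf : Function.Injective f := by
    rintro (⟨a, ha⟩ | ⟨a, ha⟩) (⟨b, hb⟩ | ⟨b, hb⟩) h
    · have h3 : a = b := congrArg Subtype.val h
      subst h3
      rfl
    · have h3 : a = b := congrArg Subtype.val h
      subst h3
      exact absurd (ha.trans hb.symm) hc
    · have h3 : a = b := congrArg Subtype.val h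
      subst h3
      exact absurd (hb.trans ha.symm) hc
    · have h3 : a = b := congrArg Subtype.val h
      subst h3
      rfl
  obtain ⟨s, h3⟩ := (hf.bijective_of_nat_card_le (by rw [Nat.card_sum]; omega)).2 ⟨x ^ 4, hx4⟩
  rcases s with ⟨z, hz⟩ | ⟨z, hz⟩
  · have h4 : z = x ^ 4 := congrArg Subtype.val h3
    rw [← h4]
    exact hz
  · exfalso
    have h4 : z = x ^ 4 := congrArg Subtype.val h3
    rw [h4] at hz
    obtain ⟨c, hc'⟩ := isConj_iff.1 hz
    apply hc
    refine isConj_iff.2 ⟨c, ?_⟩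
    have e1 : x = (x ^ 2) ^ 6 := by
      rw [← pow_mul, show 2 * 6 = 11 + 1 by norm_num, pow_add, hx11, one_mul, pow_one]
    have e2 : x ^ 2 = (x ^ 4) ^ 6 := by
      rw [← pow_mul, show 4 * 6 = 11 + 11 + 2 by norm_num, pow_add, pow_add, hx11, one_mul, one_mul]
    calc c * x * c⁻¹ = c * (x ^ 2) ^ 6 * c⁻¹ := by rw [← e1]
      _ = (c * x ^ 2 * c⁻¹) ^ 6 := conj_pow.symm
      _ = (x ^ 4) ^ 6 := by rw [hc']
      _ = x ^ 2 := e2.symm

/-- the sum of a character over the powers of an element -/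
theorem sum_pows {F : G → ℂ} (hF : IsCharacter G F) (x : G) :
    ∃ m : ℕ, ∑ k ∈ Finset.range (orderOf x), F (x ^ k) = (orderOf x : ℂ) * m := by
  classical
  have := Fintype.ofFinite ↥(Subgroup.zpowers x)
  have h1 : IsCharacter ↥(Subgroup.zpowers x) (F ∘ (Subgroup.zpowers x).subtype) :=
    Core.isCharacter_comp (Subgroup.zpowers x).subtype hF
  obtain ⟨m, hm⟩ := Core.classInner_isNat h1 Core.isCharacter_one
  refine ⟨m, ?_⟩
  have hne : (Nat.card ↥(Subgroup.zpowers x) : ℂ) ≠ 0 := by exact_mod_cast Nat.card_pos.ne'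
  rw [Core.classInner_def] at hm
  rw [← Nat.card_zpowers, ← hm, mul_inv_cancel_left₀ hne, Nat.card_zpowers, ← Fin.sum_univ_eq_sum_range
    (fun k => F (x ^ k)) (orderOf x)]
  rw [← Equiv.sum_comp (finEquivZPowers (isOfFinOrder_of_finite x))]
  refine Finset.sum_congr rfl fun i _ => ?_
  simp [finEquivZPowers_apply]

omit [Finite G] in
theorem apply_conj {F : G → ℂ} (hF : IsClassFunction G F) {x y : G} (h : IsConj x y) : F x = F y := by
  obtain ⟨c, rfl⟩ := isConj_iff.1 h
  exact (hF x c).symm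

/-- the values at the elements of order 7 which are conjugate to their powers -/
theorem sum_seven {F : G → ℂ} (hF : IsCharacter G F) {x : G} (hx : orderOf x = 7)
    (hc : ∀ k, 0 < k → k < 7 → IsConj x (x ^ k)) : ∃ m : ℕ, F 1 + 6 * F x = 7 * m := by
  obtain ⟨m, hm⟩ := sum_pows hF x
  refine ⟨m, ?_⟩
  have hcf := Core.isCharacter_isClassFunction hF
  rw [hx] at hm
  have h : ∀ k, 0 < k → k < 7 → F (x ^ k) = F x := fun k h1 h2 => (apply_conj hcf (hc k h1 h2)).symm
  simp only [Finset.sum_range_succ, Finset.sum_range_zero, pow_zero] at hm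
  rw [h 1 (by norm_num) (by norm_num), h 2 (by norm_num) (by norm_num), h 3 (by norm_num) (by norm_num),
    h 4 (by norm_num) (by norm_num), h 5 (by norm_num) (by norm_num), h 6 (by norm_num) (by norm_num)] at hm
  push_cast at hm
  linear_combination hm

/-- the values at the elements of order 11 with `x ~ x⁴` -/
theorem sum_eleven {F : G → ℂ} (hF : IsCharacter G F) {x : G} (hx : orderOf x = 11) (hc : IsConj x (x ^ 4)) :
    ∃ m : ℕ, F 1 + 5 * (F x + F (x ^ 2)) = 11 * m := by
  obtain ⟨m, hm⟩ := sum_pows hF x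
  refine ⟨m, ?_⟩
  have hcf := Core.isCharacter_isClassFunction hF
  have hx11 : x ^ 11 = 1 := hx ▸ pow_orderOf_eq_one x
  rw [hx] at hm
  obtain ⟨c, hc⟩ := isConj_iff.1 hc
  have h : ∀ k, F (x ^ (4 * k)) = F (x ^ k) := by
    intro k
    refine (apply_conj hcf (isConj_iff.2 ⟨c, ?_⟩)).symm
    rw [← conj_pow, hc, pow_mul]
  have hr : ∀ k l, x ^ (11 * k + l) = x ^ l := by
    intro k l
    rw [pow_add, pow_mul, hx11, one_pow, one_mul]
  have h1 := h 1
  have h4 := h 4
  have h5 := h 5
  have h9 := h 9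
  have h2 := h 2
  have h8 := h 8
  have h10 := h 10
  have h7 := h 7
  rw [show 4 * 4 = 11 * 1 + 5 by norm_num, hr] at h4
  rw [show 4 * 5 = 11 * 1 + 9 by norm_num, hr] at h5
  rw [show 4 * 9 = 11 * 3 + 3 by norm_num, hr] at h9
  rw [show 4 * 8 = 11 * 2 + 10 by norm_num, hr] at h8
  rw [show 4 * 10 = 11 * 3 + 7 by norm_num, hr] at h10
  rw [show 4 * 7 = 11 * 2 + 6 by norm_num, hr] at h7
  norm_num at h1 h2
  simp only [Finset.sum_range_succ, Finset.sum_range_zero, pow_zero, pow_one] at hm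
  rw [h9, h7, h10, h8, h5, h4, h1, h2] at hm
  push_cast at hm
  linear_combination hm

theorem normSq_le (χ : IrrCharacter G) (x : G) :
    Complex.normSq ((χ : G → ℂ) x) ≤ Nat.card (Subgroup.centralizer ({x} : Set G)) := by
  have := Core.finite_irr (G := G)
  have := Fintype.ofFinite (IrrCharacter G)
  rw [← sum_normSq x]
  exact Finset.single_le_sum (f := fun χ : IrrCharacter G => Complex.normSq ((χ : G → ℂ) x))
    (fun _ _ => Complex.normSq_nonneg _) (Finset.mem_univ χ)

/-- the character `χ χ̄` -/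
theorem isCharacter_sq (χ : IrrCharacter G) : IsCharacter G fun g => (χ : G → ℂ) g * conj ((χ : G → ℂ) g) :=
  Core.isCharacter_mul (Core.isIrr_isCharacter χ.2) (Core.isCharacter_conj (Core.isIrr_isCharacter χ.2))

theorem val_seven {χ : IrrCharacter G} (h1 : (χ : G → ℂ) 1 = 512) {x : G} (hx : orderOf x = 7)
    (hcent : Nat.card (Subgroup.centralizer ({x} : Set G)) = 7)
    (hc : ∀ k, 0 < k → k < 7 → IsConj x (x ^ k)) : (χ : G → ℂ) x = 1 := by
  obtain ⟨m, hm⟩ := sum_seven (Core.isIrr_isCharacter χ.2) hx hc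
  obtain ⟨a, ha⟩ := GaloisBasic.exists_int_of_rat (Core.isIrr_isCharacter χ.2) x ⟨(7 * m - 512) / 6, by
    push_cast
    rw [eq_div_iff (by norm_num)]
    linear_combination hm - h1⟩
  have h2 := normSq_le χ x
  rw [h1, ha] at hm
  rw [ha, hcent, show ((a : ℤ) : ℂ) = ((a : ℝ) : ℂ) by push_cast; rfl, Complex.normSq_ofReal] at h2
  have h3 : a * a ≤ 7 := by exact_mod_cast h2
  have h4 : (512 : ℤ) + 6 * a = 7 * m := by exact_mod_cast hm
  have h5 : a ≤ 2 := by nlinarith
  have h6 : -2 ≤ a := by nlinarith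
  have h7 : a = 1 := by omega
  rw [ha, h7]
  norm_num

theorem val_eleven {χ : IrrCharacter G} (h1 : (χ : G → ℂ) 1 = 512) {x : G} (hx : orderOf x = 11)
    (hcent : Nat.card (Subgroup.centralizer ({x} : Set G)) = 11)
    (hcent2 : Nat.card (Subgroup.centralizer ({x ^ 2} : Set G)) = 11) (hc : IsConj x (x ^ 4)) :
    (χ : G → ℂ) x + (χ : G → ℂ) (x ^ 2) = 1 ∧
      6 ≤ Complex.normSq ((χ : G → ℂ) x) + Complex.normSq ((χ : G → ℂ) (x ^ 2)) := by
  have hχ := Core.isIrr_isCharacter χ.2
  obtain ⟨m, hm⟩ := sum_eleven hχ hx hc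
  obtain ⟨a, ha⟩ := GaloisBasic.exists_int_of_isIntegral (z := (χ : G → ℂ) x + (χ : G → ℂ) (x ^ 2))
    ((GaloisBasic.isIntegral_apply hχ x).add (GaloisBasic.isIntegral_apply hχ (x ^ 2))) ⟨(11 * m - 512) / 5, by
      push_cast
      rw [eq_div_iff (by norm_num)]
      linear_combination hm - h1⟩
  have hψ := isCharacter_sq χ
  obtain ⟨n, hn⟩ := sum_eleven hψ hx hc
  have hi := (GaloisBasic.isIntegral_apply hψ x).add (GaloisBasic.isIntegral_apply hψ (x ^ 2))
  simp only [Complex.mul_conj] at hn hi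
  rw [h1, show Complex.normSq 512 = 262144 by
    rw [show (512 : ℂ) = ((512 : ℝ) : ℂ) by push_cast; rfl, Complex.normSq_ofReal]; norm_num] at hn
  obtain ⟨b, hb⟩ := GaloisBasic.exists_int_of_isIntegral hi ⟨(11 * n - 262144) / 5, by
    push_cast
    rw [eq_div_iff (by norm_num)]
    push_cast at hn
    linear_combination hn⟩
  have hb' : Complex.normSq ((χ : G → ℂ) x) + Complex.normSq ((χ : G → ℂ) (x ^ 2)) = b := by exact_mod_cast hb
  have hn' : (262144 : ℤ) + 5 * b = 11 * n := by
    rw [hb] at hn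
    exact_mod_cast hn
  have hm' : (512 : ℤ) + 5 * a = 11 * m := by
    rw [ha, h1] at hm
    exact_mod_cast hm
  have l1 := normSq_le χ x
  have l2 := normSq_le χ (x ^ 2)
  rw [hcent] at l1
  rw [hcent2] at l2
  have hb22 : b ≤ 22 := by
    have : (b : ℝ) ≤ 22 := by
      rw [← hb']
      push_cast at l1 l2
      linarith
    exact_mod_cast this
  have hb0 : 0 ≤ b := by
    have : (0 : ℝ) ≤ b := by
      rw [← hb']
      exact add_nonneg (Complex.normSq_nonneg _) (Complex.normSq_nonneg _)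
    exact_mod_cast this
  have h2 : a * a ≤ 2 * b := by
    have e1 : (a : ℝ) = ((χ : G → ℂ) x).re + ((χ : G → ℂ) (x ^ 2)).re := by
      have := congrArg Complex.re ha
      simpa using this.symm
    have e2 : (b : ℝ) = ((χ : G → ℂ) x).re * ((χ : G → ℂ) x).re + ((χ : G → ℂ) x).im * ((χ : G → ℂ) x).im +
        (((χ : G → ℂ) (x ^ 2)).re * ((χ : G → ℂ) (x ^ 2)).re + ((χ : G → ℂ) (x ^ 2)).im *
          ((χ : G → ℂ) (x ^ 2)).im) := by
      rw [← hb', Complex.normSq_apply, Complex.normSq_apply]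
    have : (a : ℝ) * a ≤ 2 * b := by
      rw [e1, e2]
      nlinarith [mul_self_nonneg (((χ : G → ℂ) x).re - ((χ : G → ℂ) (x ^ 2)).re),
        mul_self_nonneg ((χ : G → ℂ) x).im, mul_self_nonneg ((χ : G → ℂ) (x ^ 2)).im]
    exact_mod_cast this
  have h3 : a ≤ 6 := by nlinarith
  have h4 : -6 ≤ a := by nlinarith
  have h5 : a = 1 := by omega
  have h6 : 6 ≤ b := by omega
  refine ⟨by rw [ha, h5]; norm_num, ?_⟩
  rw [hb']
  exact_mod_cast h6

/-- **The main lemma.** -/
theorem no512_of (hcard : Nat.card G = 44352000) (h7 : Nat.card {g : G // orderOf g = 7} = 6336000)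
    (h11 : Nat.card {g : G // orderOf g = 11} = 8064000)
    (hT : Nat.card {g : G // ¬ 2 ∣ orderOf g ∧ orderOf g ≠ 1 ∧ orderOf g ≠ 7 ∧ orderOf g ≠ 11} = 5090624)
    (hno7 : ∀ g : G, 7 ∣ orderOf g → orderOf g = 7) (hno11 : ∀ g : G, 11 ∣ orderOf g → orderOf g = 11) :
    512 ∉ charDegrees G := by
  classical
  rintro ⟨χ, hχ⟩
  have := Fintype.ofFinite G
  have hχ1 : (χ : G → ℂ) 1 = 512 := by
    rw [← charDegree_irr χ, hχ]
    norm_num
  have hchar := Core.isIrr_isCharacter χ.2
  -- centralizers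
  have c7 : ∀ x : G, orderOf x = 7 → Nat.card (Subgroup.centralizer ({x} : Set G)) = 7 := fun x hx =>
    card_cent_of (by norm_num) (by rw [hcard]; norm_num) hno7 hx
  have c11 : ∀ x : G, orderOf x = 11 → Nat.card (Subgroup.centralizer ({x} : Set G)) = 11 := fun x hx =>
    card_cent_of (by norm_num) (by rw [hcard]; norm_num) hno11 hx
  -- values
  have v0 : ∀ x : G, 2 ∣ orderOf x → (χ : G → ℂ) x = 0 := by
    intro x hx
    obtain ⟨n, ρ, hρ, he⟩ := χ.2
    have hn : (n : ℂ) = 512 := by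
      rw [← hχ1, ← he, Representation.char_one]
      simp
    have hn' : n = 512 := by exact_mod_cast hn
    rw [← he]
    haveI := hρ
    refine S0165.result ρ 2 9 (by norm_num) (by rw [hcard]; norm_num) (by rw [hcard]; norm_num) ?_ x hx
    rw [Module.finrank_fin_fun, hn']
    norm_num
  have v7 : ∀ x : G, orderOf x = 7 → (χ : G → ℂ) x = 1 := fun x hx =>
    val_seven hχ1 hx (c7 x hx) fun k hk hk7 => conj_of_count c7 (by rw [h7, hcard]) hx (by
      rw [orderOf_pow, hx, Nat.Coprime.gcd_eq_one, Nat.div_one]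
      interval_cases k <;> decide)
  have h2o : ∀ x : G, orderOf x = 11 → orderOf (x ^ 2) = 11 := fun x hx => by
    rw [orderOf_pow, hx]
    decide
  have v11 : ∀ x : G, orderOf x = 11 → (χ : G → ℂ) x + (χ : G → ℂ) (x ^ 2) = 1 ∧
      6 ≤ Complex.normSq ((χ : G → ℂ) x) + Complex.normSq ((χ : G → ℂ) (x ^ 2)) := fun x hx =>
    val_eleven hχ1 hx (c11 x hx) (c11 _ (h2o x hx)) (conj_four c11 (by rw [h11, hcard]) hx)
  -- the sets
  set A : Finset G := Finset.univ.filter fun g => orderOf g = 7 with hA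
  set B : Finset G := Finset.univ.filter fun g => orderOf g = 11 with hB
  set T : Finset G := Finset.univ.filter fun g => ¬ 2 ∣ orderOf g ∧ orderOf g ≠ 1 ∧ orderOf g ≠ 7 ∧
    orderOf g ≠ 11 with hTd
  have cA : A.card = 6336000 := by
    rw [← h7, Nat.card_eq_fintype_card, Fintype.card_subtype]
  have cB : B.card = 8064000 := by
    rw [← h11, Nat.card_eq_fintype_card, Fintype.card_subtype]
  have cT : T.card = 5090624 := by
    rw [← hT, Nat.card_eq_fintype_card, Fintype.card_subtype]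
  have split : ∀ {M : Type} [AddCommMonoid M] (f : G → M), (∀ g, 2 ∣ orderOf g → f g = 0) →
      ∑ g, f g = f 1 + ∑ g ∈ A, f g + ∑ g ∈ B, f g + ∑ g ∈ T, f g := by
    intro M _ f hf
    have e1 : f 1 = ∑ g : G, if g = 1 then f g else 0 := by
      rw [Finset.sum_ite_eq' Finset.univ (1 : G) f, if_pos (Finset.mem_univ _)]
    rw [e1, hA, hB, hTd, Finset.sum_filter, Finset.sum_filter, Finset.sum_filter, ← Finset.sum_add_distrib,
      ← Finset.sum_add_distrib, ← Finset.sum_add_distrib]
    refine Finset.sum_congr rfl fun g _ => ?_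
    by_cases g1 : g = 1
    · subst g1
      simp
    by_cases g2 : 2 ∣ orderOf g
    · rw [hf g g2]
      simp
    have g3 : orderOf g ≠ 1 := fun h => g1 (orderOf_eq_one_iff.1 h)
    rw [if_neg g1, zero_add]
    by_cases g7 : orderOf g = 7
    · simp [g7]
    by_cases g11 : orderOf g = 11
    · simp [g11]
    rw [if_neg g7, if_neg g11, if_pos ⟨g2, g3, g7, g11⟩, zero_add, zero_add]
  -- the sum of the values
  have s0 : ∑ g : G, (χ : G → ℂ) g = 0 := by
    have h := Core.classInner_irr_ne χ.2 Core.isIrr_one fun h => by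
      rw [h, Pi.one_apply] at hχ1
      norm_num at hχ1
    rw [Core.classInner_def] at h
    have hne : (Nat.card G : ℂ) ≠ 0 := by exact_mod_cast Nat.card_pos.ne'
    have h' := (mul_eq_zero.1 h).resolve_left (inv_ne_zero hne)
    simpa using h'
  have s1 : ∑ g : G, Complex.normSq ((χ : G → ℂ) g) = 44352000 := by
    have h := Core.classInner_irr_self χ.2
    rw [Core.classInner_def] at h
    have hne : (Nat.card G : ℂ) ≠ 0 := by exact_mod_cast Nat.card_pos.ne'
    have h' : ∑ g : G, (χ : G → ℂ) g * conj ((χ : G → ℂ) g) = (Nat.card G : ℂ) := by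
      field_simp at h
      exact h
    rw [hcard] at h'
    simp only [Complex.mul_conj] at h'
    exact_mod_cast h'
  -- elements of order 11
  have hbij : ∀ {M : Type} [AddCommMonoid M] (f : G → M), ∑ g ∈ B, f (g ^ 2) = ∑ g ∈ B, f g := by
    intro M _ f
    refine Finset.sum_bij (fun g _ => g ^ 2) ?_ ?_ ?_ ?_
    · intro g hg
      rw [hB, Finset.mem_filter] at hg ⊢
      exact ⟨Finset.mem_univ _, h2o g hg.2⟩
    · intro g hg h hh he
      rw [hB, Finset.mem_filter] at hg hh
      have key : ∀ z : G, orderOf z = 11 → z = (z ^ 2) ^ 6 := by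
        intro z hz
        have hz11 : z ^ 11 = 1 := hz ▸ pow_orderOf_eq_one z
        rw [← pow_mul, show 2 * 6 = 11 + 1 by norm_num, pow_add, hz11, one_mul, pow_one]
      have he' : g ^ 2 = h ^ 2 := he
      rw [key g hg.2, key h hh.2, he']
    · intro g hg
      rw [hB, Finset.mem_filter] at hg
      have hz11 : g ^ 11 = 1 := hg.2 ▸ pow_orderOf_eq_one g
      refine ⟨g ^ 6, ?_, ?_⟩
      · rw [hB, Finset.mem_filter]
        refine ⟨Finset.mem_univ _, ?_⟩
        rw [orderOf_pow, hg.2]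
        decide
      · show (g ^ 6) ^ 2 = g
        rw [← pow_mul, show 6 * 2 = 11 + 1 by norm_num, pow_add, hz11, one_mul, pow_one]
    · intro g _
      rfl
  have sB : ∑ g ∈ B, (χ : G → ℂ) g = 4032000 := by
    have h1 : ∑ g ∈ B, ((χ : G → ℂ) g + (χ : G → ℂ) (g ^ 2)) = 8064000 := by
      rw [Finset.sum_congr rfl (g := fun _ => (1 : ℂ)), Finset.sum_const, cB]
      · norm_num
      · intro g hg
        exact (v11 g (Finset.mem_filter.1 hg).2).1
    rw [Finset.sum_add_distrib, hbij fun g => (χ : G → ℂ) g] at h1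
    linear_combination h1 / 2
  have nB : (24192000 : ℝ) ≤ ∑ g ∈ B, Complex.normSq ((χ : G → ℂ) g) := by
    have h1 : ∑ _g ∈ B, (6 : ℝ) ≤ ∑ g ∈ B, (Complex.normSq ((χ : G → ℂ) g) + Complex.normSq ((χ : G → ℂ) (g ^ 2))) :=
      Finset.sum_le_sum fun g hg => (v11 g (Finset.mem_filter.1 hg).2).2
    rw [Finset.sum_add_distrib, hbij fun g => Complex.normSq ((χ : G → ℂ) g), Finset.sum_const, cB] at h1
    norm_num at h1
    linarith
  have sA : ∑ g ∈ A, (χ : G → ℂ) g = 6336000 := by
    rw [Finset.sum_congr rfl (g := fun _ => (1 : ℂ)), Finset.sum_const, cA]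
    · norm_num
    · intro g hg
      exact v7 g (Finset.mem_filter.1 hg).2
  have nA : ∑ g ∈ A, Complex.normSq ((χ : G → ℂ) g) = 6336000 := by
    rw [Finset.sum_congr rfl (g := fun _ => (1 : ℝ)), Finset.sum_const, cA]
    · norm_num
    · intro g hg
      rw [v7 g (Finset.mem_filter.1 hg).2, map_one]
  have sT : ∑ g ∈ T, (χ : G → ℂ) g = -10368512 := by
    have h := split (fun g => (χ : G → ℂ) g) v0
    rw [s0, hχ1, sA, sB] at h
    linear_combination -h
  have nT : ∑ g ∈ T, Complex.normSq ((χ : G → ℂ) g) ≤ 13561856 := by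
    have h := split (fun g => Complex.normSq ((χ : G → ℂ) g)) fun g hg => by rw [v0 g hg, map_zero]
    rw [s1, nA] at h
    have h1 : Complex.normSq ((χ : G → ℂ) 1) = 262144 := by
      rw [hχ1, show (512 : ℂ) = ((512 : ℝ) : ℂ) by push_cast; rfl, Complex.normSq_ofReal]
      norm_num
    simp only [h1] at h
    linarith
  -- Cauchy-Schwarz
  have h1 : (10368512 : ℝ) ≤ ∑ g ∈ T, ‖(χ : G → ℂ) g‖ := by
    have h2 := norm_sum_le T fun g => (χ : G → ℂ) g
    rw [sT, norm_neg] at h2
    have h3 : ‖(10368512 : ℂ)‖ = 10368512 := by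
      rw [show (10368512 : ℂ) = ((10368512 : ℝ) : ℂ) by push_cast; rfl, Complex.norm_real]
      norm_num
    rw [h3] at h2
    exact h2
  have h2 := sq_sum_le_card_mul_sum_sq (s := T) (f := fun g => ‖(χ : G → ℂ) g‖)
  have h3 : ∑ g ∈ T, ‖(χ : G → ℂ) g‖ ^ 2 = ∑ g ∈ T, Complex.normSq ((χ : G → ℂ) g) :=
    Finset.sum_congr rfl fun g _ => by rw [Complex.normSq_eq_norm_sq]
  rw [h3, cT] at h2
  have h4 : (10368512 : ℝ) ^ 2 ≤ (∑ g ∈ T, ‖(χ : G → ℂ) g‖) ^ 2 := by
    gcongr
  push_cast at h2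
  nlinarith

end general

section transfer

variable {G : Type*} [Group G] {H : Type*} [Group H]

theorem card_order_congr (e : G ≃* H) (p : ℕ → Prop) :
    Nat.card {g : G // p (orderOf g)} = Nat.card {g : H // p (orderOf g)} := by
  refine Nat.card_congr (Equiv.subtypeEquiv e.toEquiv fun g => ?_)
  have h : orderOf (e.toEquiv g) = orderOf g := e.orderOf_eq g
  rw [h]

end transfer

open Cfsg.Agent.HN.HS100 in
/-- **`HS` has no irreducible character of degree 512.** -/
theorem no512 {X : Type u} [Group X] [Finite X] (hX : Spor.IsoHS X) : 512 ∉ charDegrees X := by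
  obtain ⟨e⟩ := hX
  obtain ⟨⟨f⟩, -⟩ := Cfsg.Agent.HN.AutHS.nonempty_Q
  let g : Q ≃* X := f.trans e.symm
  have hg : ∀ x : X, orderOf x = orderOf (g.symm x) := fun x => (g.symm.orderOf_eq x).symm
  refine no512_of ?_ ?_ ?_ ?_ ?_ ?_
  · rw [← Nat.card_congr g.toEquiv]
    exact Cfsg.Agent.H922.Ore.HS.card_Q_eq
  · exact (card_order_congr g fun n => n = 7).symm.trans HS.count_seven
  · exact (card_order_congr g fun n => n = 11).symm.trans HS.count_eleven
  · exact (card_order_congr g fun n => ¬ 2 ∣ n ∧ n ≠ 1 ∧ n ≠ 7 ∧ n ≠ 11).symm.trans HS.count_rest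
  · intro x hx
    rw [hg] at hx ⊢
    exact HS.seven_of_dvd _ hx
  · intro x hx
    rw [hg] at hx ⊢
    exact HS.eleven_of_dvd _ hx

end Cfsg.Agent.H678.S8
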