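import Cfsg.Agent.H922.Ore.HSFinal

/-!
# `HS`: the numbers of elements of given order (helper678, for S4908)

By the class list of `H922.Ore.HS` (21 classes of `HS.2` in `HS`): the number of elements of `HS` whose order satisfies
a given predicate.
-/

set_option autoImplicit false

namespace Cfsg.Agent.H678.S8

open Cfsg.Agent.H922.Ore.Gr

section general

variable {G : Type*} [Group G] [Finite G]

/-- **Counting elements by their orders** with a class list which is sharp. -/
theorem count_of (N : Subgroup G) [N.Normal] {ι : Type} [Fintype ι] (x : ι → G) (c o : ι → ℕ) (hN : ∀ i, x i ∈ N)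
    (hc : ∀ i, Nat.card ↥(Subgroup.centralizer ({x i} : Set G)) ≤ c i) (hd : ∀ i j, IsConj (x i) (x j) → i = j)
    (hs : Nat.card N = ∑ i, Nat.card G / c i) (ho : ∀ i, orderOf (x i) = o i) (p : ℕ → Prop) [DecidablePred p] :
    Nat.card {g : N // p (orderOf g)} = ∑ i, if p (o i) then Nat.card G / c i else 0 := by
  classical
  have hmem : ∀ i (y : G), IsConj (x i) y → y ∈ N := by
    intro i y h
    obtain ⟨k, rfl⟩ := isConj_iff.1 h
    exact Subgroup.Normal.conj_mem inferInstance _ (hN i) k
  let f : (Σ i : ι, {y : G // IsConj (x i) y}) → N := fun s => ⟨s.2.1, hmem s.1 _ s.2.2⟩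
  have hf : Function.Injective f := by
    rintro ⟨i, y, hy⟩ ⟨j, z, hz⟩ h
    have h1 : y = z := congrArg Subtype.val h
    subst h1
    have h2 := hd i j (hy.trans hz.symm)
    subst h2
    rfl
  have hle : ∀ i, Nat.card G / c i ≤ Nat.card {y : G // IsConj (x i) y} := by
    intro i
    apply Nat.div_le_of_le_mul
    rw [← card_class (x i), mul_comm (c i)]
    exact Nat.mul_le_mul_left _ (hc i)
  have hb := hf.bijective_of_nat_card_le (by
    rw [Nat.card_sigma, hs]
    exact Finset.sum_le_sum fun i _ => hle i)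
  have hcard : Nat.card N = ∑ i, Nat.card {y : G // IsConj (x i) y} := by
    rw [← Nat.card_sigma]
    exact (Nat.card_congr (Equiv.ofBijective f hb)).symm
  have heq : ∀ i, Nat.card G / c i = Nat.card {y : G // IsConj (x i) y} := fun i =>
    (Finset.sum_eq_sum_iff_of_le fun i _ => hle i).1 (hs.symm.trans hcard) i (Finset.mem_univ _)
  have hord : ∀ s : (Σ i : ι, {y : G // IsConj (x i) y}), orderOf (f s) = o s.1 := by
    rintro ⟨i, y, hy⟩
    rw [← ho i]
    show orderOf (⟨y, _⟩ : N) = _
    rw [Subgroup.orderOf_mk]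
    obtain ⟨k, hk⟩ := isConj_iff.1 hy
    rw [← hk]
    exact orderOf_injective (MulAut.conj k).toMonoidHom (MulAut.conj k).injective (x i)
  have e1 : {s : (Σ i : ι, {y : G // IsConj (x i) y}) // p (o s.1)} ≃ {g : N // p (orderOf g)} :=
    Equiv.subtypeEquiv (Equiv.ofBijective f hb) fun s => by
      rw [Equiv.ofBijective_apply, hord]
  rw [← Nat.card_congr e1, Nat.card_congr (Equiv.subtypeSigmaEquiv (fun i : ι => {y : G // IsConj (x i) y})
    fun i => p (o i)), Nat.card_sigma, ← Finset.sum_filter,
    ← Finset.sum_subtype_eq_sum_filter (s := Finset.univ) (p := fun i => p (o i)) (f := fun i => Nat.card G / c i)]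
  refine Finset.sum_bij (fun i _ => i) ?_ ?_ ?_ ?_
  · intro i _
    simp
  · intro i _ j _ h
    exact h
  · intro i _
    exact ⟨i, Finset.mem_univ _, rfl⟩
  · intro i _
    exact (heq i).symm

end general

section order

open Cfsg.Agent.SporadicA.PermTab Equiv

theorem acts_pow {n P : ℕ} {x : Perm (Fin n)} (hx : Acts x [P]) (k : ℕ) : Acts (x ^ k) (List.replicate k P) := by
  induction k with
  | zero => exact Acts.one
  | succ k ih =>
    rw [pow_succ', List.replicate_succ']
    exact Acts.mul hx ih

/-- the table `P` has order `m` -/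
def ordB (n P m : ℕ) : Bool :=
  Nat.blt 0 m && (eqv n (List.replicate m P) [] &&
    (List.range m).all fun k => Nat.beq k 0 || !(eqv n (List.replicate k P) []))

theorem orderOf_of_ordB {n P m : ℕ} {x : Perm (Fin n)} (hx : Acts x [P]) (h : ordB n P m = true) : orderOf x = m := by
  simp only [ordB, Bool.and_eq_true, List.all_eq_true, List.mem_range, Bool.or_eq_true, Bool.not_eq_true'] at h
  obtain ⟨h0, h1, h2⟩ := h
  rw [Nat.blt_eq] at h0
  rw [orderOf_eq_iff h0]
  refine ⟨Acts.eq (acts_pow hx m) Acts.one h1, fun k hk hk0 he => ?_⟩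
  rcases h2 k hk with h3 | h3
  · exact hk0.ne' (Nat.eq_of_beq_eq_true h3)
  · have h4 := acts_pow hx k
    rw [he] at h4
    have h5 : eqv n (List.replicate k P) [] = true := by
      rw [eqv, allB_iff]
      intro i hi
      have h6 := h4 ⟨i, hi⟩
      have h7 : ev (List.replicate k P) i = i := by
        rw [← h6]
        rfl
      rw [h7]
      exact Nat.beq_refl _
    rw [h5] at h3
    exact absurd h3 (by simp)

end order

namespace HS

open Equiv Cfsg.Agent.HN.HS100 Cfsg.Agent.HN.Pres Cfsg.Agent.SporadicA.PermTab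
open Cfsg.Agent.H922.Ore.HS

/-- the orders of the representatives -/
def ords : Fin 21 → ℕ := ![1, 2, 2, 3, 4, 4, 4, 5, 5, 5, 6, 6, 7, 8, 8, 10, 10, 11, 12, 15, 20]

theorem ords_ok : ∀ i, ordB 100 (D i).X (ords i) = true := by decide +kernel

theorem count (p : ℕ → Prop) [DecidablePred p] :
    Nat.card {g : Q // p (orderOf g)} = ∑ i, if p (ords i) then 88704000 / bnd (D i).L else 0 := by
  classical
  have h0 : ∀ i, ∃ x ∈ Q, Acts x [(D i).X] := by
    intro i
    have h := chk_all i
    simp only [Cls.chk, Bool.and_eq_true] at h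
    obtain ⟨x, hx, hx', -⟩ := Wit.ok (D i).toWit h.1 (mem_all i)
    exact ⟨x, hx, hx'⟩
  choose x hxQ hxA using h0
  have hR : Nat.card φ.range = 88704000 := by rw [card_range, card_Q_eq]
  have : (Q.subgroupOf φ.range).Normal := by
    refine ⟨fun q hq r => ?_⟩
    rw [Subgroup.mem_subgroupOf] at hq ⊢
    exact norm_Q r r.2 q hq
  have hcard : Nat.card (Q.subgroupOf φ.range) = Nat.card Q :=
    Nat.card_congr (Subgroup.subgroupOfEquivOfLe Q_le_range).toEquiv
  have key := count_of (Q.subgroupOf φ.range) (fun i => (⟨x i, Q_le_range (hxQ i)⟩ : φ.range)) (fun i => bnd (D i).L)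
    ords (fun i => hxQ i) (by
      intro i
      have h := chk_all i
      simp only [Cls.chk, Bool.and_eq_true] at h
      have e : Nat.card ↥(Subgroup.centralizer ({(⟨x i, Q_le_range (hxQ i)⟩ : φ.range)} : Set φ.range)) =
          Nat.card ↥((Subgroup.centralizer ({(⟨x i, Q_le_range (hxQ i)⟩ : φ.range)} : Set φ.range)).map
            φ.range.subtype) :=
        Nat.card_congr (Subgroup.equivMapOfInjective _ _ φ.range.subtype_injective).toEquiv
      rw [e]
      refine card_le_of_chC (A := adjA) (hxA i) (D i).m (D i).k (D i).L _ [] ?_ ?_ ?_ h.2.1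
      · rintro _ ⟨c, -, rfl⟩
        exact range_le c.2
      · rintro _ ⟨c, hc, rfl⟩ j
        have hc' := Subgroup.mem_centralizer_singleton_iff.1 hc
        have h1 := congrArg (fun z : φ.range => (z : Perm (Fin 100)) j) hc'
        exact h1
      · intro c _ f hf
        exact absurd hf List.not_mem_nil) (by
      intro i j hij
      obtain ⟨c, hc⟩ := isConj_iff.1 hij
      have h1 : (c : Perm (Fin 100)) * x i * (c : Perm (Fin 100))⁻¹ = x j := congrArg Subtype.val hc
      have h2 : (c : Perm (Fin 100)) * x i = x j * c := by rw [← h1]; group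
      have h3 := inv4v_conj (A := adjA) (range_le c.2) h2
      have key : ∀ i, inv4v adjA (x i) = (D i).I := by
        intro i
        have h := chk_all i
        simp only [Cls.chk, Bool.and_eq_true] at h
        obtain ⟨-, -, h4⟩ := h
        split at h4
        · next v2 v1 w2 w1 he =>
          rw [he]
          exact inv4v_of (hxA i) h4
        · exact absurd h4 (by simp)
      rw [key, key] at h3
      have hI : ∀ i j, (D i).I = (D j).I → i = j := by decide +kernel
      exact hI i j h3) (by
      rw [hcard, card_Q_eq, hR]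
      decide +kernel) (by
      intro i
      rw [Subgroup.orderOf_mk]
      exact orderOf_of_ordB (hxA i) (ords_ok i)) p
  rw [hR] at key
  rw [← key]
  refine Nat.card_congr (Equiv.subtypeEquiv (Subgroup.subgroupOfEquivOfLe Q_le_range).toEquiv.symm fun g => ?_)
  have h1 : orderOf ((Subgroup.subgroupOfEquivOfLe Q_le_range).toEquiv.symm g) = orderOf g :=
    orderOf_injective (Subgroup.subgroupOfEquivOfLe Q_le_range).symm.toMonoidHom
      (Subgroup.subgroupOfEquivOfLe Q_le_range).symm.injective g
  rw [h1]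

theorem count_seven : Nat.card {g : Q // orderOf g = 7} = 6336000 := by
  rw [count (fun n => n = 7)]
  decide +kernel

theorem count_eleven : Nat.card {g : Q // orderOf g = 11} = 8064000 := by
  rw [count (fun n => n = 11)]
  decide +kernel

theorem count_rest : Nat.card {g : Q // ¬ 2 ∣ orderOf g ∧ orderOf g ≠ 1 ∧ orderOf g ≠ 7 ∧ orderOf g ≠ 11} =
    5090624 := by
  rw [count (fun n => ¬ 2 ∣ n ∧ n ≠ 1 ∧ n ≠ 7 ∧ n ≠ 11)]
  decide +kernel

theorem none_of {p : ℕ → Prop} [DecidablePred p] (h : ∀ i, ¬ p (ords i)) (g : Q) : ¬ p (orderOf g) := by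
  intro hg
  have hfin : Finite Q := inferInstance
  have h1 := count p
  rw [Finset.sum_eq_zero fun i _ => if_neg (h i)] at h1
  have : Nonempty {g : Q // p (orderOf g)} := ⟨⟨g, hg⟩⟩
  exact Nat.card_pos.ne' h1

theorem seven_of_dvd (g : Q) (h : 7 ∣ orderOf g) : orderOf g = 7 := by
  by_contra hne
  exact none_of (p := fun n => 7 ∣ n ∧ n ≠ 7) (by decide +kernel) g ⟨h, hne⟩

theorem eleven_of_dvd (g : Q) (h : 11 ∣ orderOf g) : orderOf g = 11 := by
  by_contra hne
  exact none_of (p := fun n => 11 ∣ n ∧ n ≠ 11) (by decide +kernel) g ⟨h, hne⟩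

end HS

end Cfsg.Agent.H678.S8
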