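import Cfsg.Agent.H678.DG.JTwoDeg
import Cfsg.Agent.H678.S8.JTwoRel
import Cfsg.Prelude.Def_DegreeGraph

/-!
# The Hall-Janko group has an irreducible character of degree 14 (helper678, for S4908)

The action on the 315 subsets (involutions of class 2A), a relation of valency 32 given by its matrix `RM`, eigenvalue
`2 + 6 √5`.

* `kernel_of_index` : degrees from an indexed orbit and an invariant relation on the indices, complex eigenvalues;
* `kernel_of_tables` : the version with tables;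
* `deg_14` : the result.
-/

set_option autoImplicit false
set_option maxRecDepth 100000

namespace Cfsg.Agent.H678.S8

open Cfsg Equiv Cfsg.Agent.SporadicA.PermTab Cfsg.Agent.H678.DG
open scoped ComplexConjugate

section index

universe u v

variable {G : Type u} [Group G] [Finite G] {Y : Type v} [MulAction G Y] {M n : ℕ}

/-- **Degrees from an indexed orbit and a relation of the indices.** -/
theorem kernel_of_index (y : Fin M → Y) (hinj : Function.Injective y) (i₀ : Fin M)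
    (hcl : ∀ g : G, ∀ i, ∃ j, g • y i = y j) (htrG : ∀ i, ∃ g : G, g • y i₀ = y i)
    (K : Subgroup G) (hK : ∀ g ∈ K, g • y i₀ = y i₀) (cls : Fin M → Fin n) (r : Fin n → Fin M)
    (hcls : ∀ g ∈ K, ∀ i j, g • y i = y j → cls j = cls i)
    (htr : ∀ i, ∃ g ∈ K, g • y (r (cls i)) = y i)
    (E : Fin M → Fin M → Bool)
    (hE : ∀ (g : G) i j i' j', g • y i = y i' → g • y j = y j' → E i' j' = E i j) (B : Fin n → Fin n → ℕ)
    (hB : ∀ i j, (Finset.univ.filter fun k : Fin M => E (r i) k = true ∧ cls k = j).card = B i j)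
    (kk : Fin n → ℕ) (hk : ∀ j, (Finset.univ.filter fun i => cls i = j).card = kk j)
    (a : Fin n → ℂ) (t : ℂ) (hBa : ∀ i, ∑ j, (B i j : ℂ) * a j = t * a i)
    (huniq : ∀ a' : Fin n → ℂ, (∀ i, ∑ j, (B i j : ℂ) * a' j = t * a' i) → ∀ i, a' i = a' (cls i₀) * a i)
    (ha : a (cls i₀) = 1) :
    ∃ χ : IrrCharacter G, (charDegree (χ : G → ℂ) : ℂ) * ∑ j, (kk j : ℂ) * (a j * conj (a j)) = (M : ℂ) := by
  classical
  let act : MulAction G (Idx.Orb y) := Idx.orbAct y hcl
  let e := Idx.eqv y hinj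
  let ft : Fintype (Idx.Orb y) := Fintype.ofEquiv _ e
  have hsm : ∀ (g : G) (x : Idx.Orb y), (g • x).1 = g • x.1 := fun _ _ => rfl
  have he : ∀ i, (e i).1 = y i := fun _ => rfl
  have hes : ∀ x : Idx.Orb y, y (e.symm x) = x.1 := fun x => by rw [← he, e.apply_symm_apply]
  have htrans : MulAction.IsPretransitive G (Idx.Orb y) := by
    have key : ∀ x : Idx.Orb y, ∃ g : G, g • e i₀ = x := by
      intro x
      obtain ⟨g, hg⟩ := htrG (e.symm x)
      refine ⟨g, Subtype.ext ?_⟩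
      rw [hsm, he, hg, hes]
    refine ⟨fun x z => ?_⟩
    obtain ⟨g, rfl⟩ := key x
    obtain ⟨h, rfl⟩ := key z
    exact ⟨h * g⁻¹, by rw [mul_smul, inv_smul_smul]⟩
  have hcard : Fintype.card (Idx.Orb y) = M := by
    rw [Fintype.card_congr e.symm, Fintype.card_fin]
  have h0 : e.symm (e i₀) = i₀ := e.symm_apply_apply i₀
  obtain ⟨χ, hχ⟩ := Sph.exists_of_kernel (X := Idx.Orb y)
    (fun x z => if E (e.symm x) (e.symm z) = true then (1 : ℂ) else 0) (by
      intro g x z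
      show (if E (e.symm (g • x)) (e.symm (g • z)) = true then (1 : ℂ) else 0) =
        if E (e.symm x) (e.symm z) = true then (1 : ℂ) else 0
      rw [hE g (e.symm x) (e.symm z) (e.symm (g • x)) (e.symm (g • z)) (by rw [hes, hes, hsm])
        (by rw [hes, hes, hsm])]) (e i₀) K
    (fun g hg => Subtype.ext (hK g hg)) (fun x => cls (e.symm x)) (fun i => e (r i)) (by
      intro g hg x
      refine hcls g hg _ _ ?_
      rw [hes, hes, hsm]) (by
      intro x
      obtain ⟨g, hg, h⟩ := htr (e.symm x)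
      refine ⟨g, hg, Subtype.ext ?_⟩
      rw [hsm, he, h, hes]) (fun i j => (B i j : ℂ)) (by
      intro i j
      rw [← hB i j, ← Finset.sum_filter, Finset.sum_const, nsmul_eq_mul, mul_one, Finset.filter_filter]
      congr 1
      refine Finset.card_bij (fun x _ => e.symm x) ?_ ?_ ?_
      · intro x hx
        rw [Finset.mem_filter] at hx ⊢
        refine ⟨Finset.mem_univ _, ?_, hx.2.1⟩
        have h1 := hx.2.2
        rw [e.symm_apply_apply] at h1
        exact h1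
      · intro x _ z _ h
        exact e.symm.injective h
      · intro k hk
        rw [Finset.mem_filter] at hk
        refine ⟨e k, ?_, e.symm_apply_apply k⟩
        rw [Finset.mem_filter]
        refine ⟨Finset.mem_univ _, ?_, ?_⟩
        · rw [e.symm_apply_apply]
          exact hk.2.2
        · rw [e.symm_apply_apply, e.symm_apply_apply]
          exact hk.2.1) kk (by
      intro j
      rw [← hk j]
      refine Finset.card_bij (fun x _ => e.symm x) ?_ ?_ ?_
      · intro x hx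
        rw [Finset.mem_filter] at hx ⊢
        exact ⟨Finset.mem_univ _, hx.2⟩
      · intro x _ z _ h
        exact e.symm.injective h
      · intro k hk
        rw [Finset.mem_filter] at hk
        refine ⟨e k, ?_, e.symm_apply_apply k⟩
        rw [Finset.mem_filter]
        refine ⟨Finset.mem_univ _, ?_⟩
        rw [e.symm_apply_apply]
        exact hk.2) a t hBa (by
      intro a' h i
      show a' i = a' (cls (e.symm (e i₀))) * a i
      rw [h0]
      exact huniq a' h i) (by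
      show a (cls (e.symm (e i₀))) = 1
      rw [h0]
      exact ha)
  rw [hcard] at hχ
  exact ⟨χ, hχ⟩

end index

section tables

open Cfsg.Agent.H678.DG.Blk

variable {N M : ℕ} {G : Subgroup (Perm (Fin N))}

/-- A relation on the indices invariant under the generators is invariant. -/
theorem rel_inv {F : ℕ → Y N} {GT : Set (Perm (Fin N))} (hG : G = Subgroup.closure GT) (R : ℕ → ℕ → Bool)
    (hinj : ∀ x < M, ∀ y < M, F x = F y → x = y)
    (hcl : ∀ g : G, ∀ x < M, ∃ y < M, g • F x = F y)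
    (hgen : ∀ g ∈ GT, ∀ (hg : g ∈ G), ∀ x < M, ∀ y < M, ∀ x' < M, ∀ y' < M, (⟨g, hg⟩ : G) • F x = F x' →
      (⟨g, hg⟩ : G) • F y = F y' → R x' y' = R x y) (g : G) :
    ∀ x < M, ∀ y < M, ∀ x' < M, ∀ y' < M, g • F x = F x' → g • F y = F y' → R x' y' = R x y := by
  obtain ⟨g, hg⟩ := g
  subst hG
  induction hg using Subgroup.closure_induction with
  | mem g hg => exact hgen g hg (Subgroup.subset_closure hg)
  | one =>
    intro x hx y hy x' hx' y' hy' h1 h2
    rw [show (⟨1, one_mem _⟩ : Subgroup.closure GT) = 1 from rfl, one_smul] at h1 h2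
    rw [hinj x hx x' hx' h1, hinj y hy y' hy' h2]
  | mul a b ha hb iha ihb =>
    intro x hx y hy x' hx' y' hy' h1 h2
    have e : (⟨a * b, mul_mem ha hb⟩ : Subgroup.closure GT) = ⟨a, ha⟩ * ⟨b, hb⟩ := rfl
    rw [e, mul_smul] at h1 h2
    obtain ⟨x1, hx1, h3⟩ := hcl ⟨b, hb⟩ x hx
    obtain ⟨y1, hy1, h4⟩ := hcl ⟨b, hb⟩ y hy
    rw [h3] at h1
    rw [h4] at h2
    rw [iha x1 hx1 y1 hy1 x' hx' y' hy' h1 h2, ihb x hx y hy x1 hx1 y1 hy1 h3 h4]
  | inv a ha iha =>
    intro x hx y hy x' hx' y' hy' h1 h2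
    have e : (⟨a⁻¹, inv_mem ha⟩ : Subgroup.closure GT) = (⟨a, ha⟩ : Subgroup.closure GT)⁻¹ := rfl
    rw [e, inv_smul_eq_iff] at h1 h2
    exact (iha x' hx' y' hy' x hx y hy h1.symm h2.symm).symm

/-- the invariance of the relation with rows `rw` under the table `q` -/
def chkR (M : ℕ) (row : ℕ → ℕ) (q : ℕ) : Bool :=
  allB (fun x => forceB (row x) fun m => forceB (row (lk q x)) fun m' =>
    allB (fun y => beqb (tb m' (lk q y)) (tb m y)) M) M

/-- The collapsed matrix. -/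
def chkBR (M n : ℕ) (row : ℕ → ℕ) (bs : List ℕ) (B : ℕ → ℕ → ℕ) : Bool :=
  allB (fun i => forceB (row (rt bs i)) fun m => allB (fun j => cntB (fun y => band (Nat.beq (lab bs y) j)
    (tb m y)) M (B i j)) n) n

/-- **Degrees from tables**, the relation given by its matrix. -/
theorem kernel_of_tables {n : ℕ} {mk : ℕ → ℕ} {GT : Set (Perm (Fin N))} (hG : G = Subgroup.closure GT)
    {PQ : List (ℕ × ℕ)} (hGT : ∀ g ∈ GT, ∃ pq ∈ PQ, ∀ i : Fin N, ((g i : Fin N) : ℕ) = lk pq.1 i)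
    (hin : ∀ pq ∈ PQ, InG G pq.1) {bs : List ℕ} {KW : List (List (ℕ × ℕ))} (hKW : ∀ w ∈ KW, ∀ pq ∈ w, pq ∈ PQ)
    {pr : ℕ → ℕ} {kk : ℕ → ℕ} {B : ℕ → ℕ → ℕ} (hM : 0 < M) (hlab0 : lab bs 0 = 0)
    (h1 : allL (chkPQ N M mk) PQ = true) (h2 : chkInj M N mk = true) (h3 : allL (chkW M bs) KW = true)
    (h4 : chkF M bs PQ KW pr = true) (h5 : chkK M n bs kk = true) (row : ℕ → ℕ)
    (hR : ∀ pq ∈ PQ, chkR M row pq.2 = true) (h6 : chkBR M n row bs B = true)
    (hn : 0 < n) (a : Fin n → ℂ) (t : ℂ) (hBa : ∀ i : Fin n, ∑ j : Fin n, (B i j : ℂ) * a j = t * a i)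
    (huniq : ∀ a' : Fin n → ℂ, (∀ i : Fin n, ∑ j : Fin n, (B i j : ℂ) * a' j = t * a' i) →
      ∀ i, a' i = a' ⟨0, hn⟩ * a i) (ha : a ⟨0, hn⟩ = 1) :
    ∃ χ : IrrCharacter G, (charDegree (χ : G → ℂ) : ℂ) * ∑ j : Fin n, (kk j : ℂ) * (a j * conj (a j)) = (M : ℂ) := by
  classical
  set F := Fm N mk with hF
  have hinj := inj_of_chk (N := N) h2
  have hPQ : ∀ pq ∈ PQ, Cor G F M (lk pq.2) := by
    intro pq hpq
    obtain ⟨g, hg, hgi⟩ := hin pq hpq
    exact ⟨⟨g, hg⟩, cor_of_chkPQ ((allL_iff _ _).1 h1 pq hpq) ⟨g, hg⟩ hgi⟩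
  have hcl : ∀ g : G, ∀ x < M, ∃ y < M, g • F x = F y := closed hG (by
    intro g hgT hg x hx
    obtain ⟨pq, hpq, hgi⟩ := hGT g hgT
    obtain ⟨h7, h8⟩ := cor_of_chkPQ ((allL_iff _ _).1 h1 pq hpq) (⟨g, hg⟩ : G) hgi x hx
    exact ⟨_, h7, h8⟩) hinj
  have hrel := rel_inv (M := M) (F := F) hG (fun x y => tb (row x) y) hinj hcl (by
    intro g hgT hg x hx y hy x' hx' y' hy' h7 h8
    obtain ⟨pq, hpq, hgi⟩ := hGT g hgT
    obtain ⟨h9, h10⟩ := cor_of_chkPQ ((allL_iff _ _).1 h1 pq hpq) (⟨g, hg⟩ : G) hgi x hx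
    obtain ⟨h11, h12⟩ := cor_of_chkPQ ((allL_iff _ _).1 h1 pq hpq) (⟨g, hg⟩ : G) hgi y hy
    have e1 : lk pq.2 x = x' := hinj _ h9 _ hx' (h10.symm.trans h7)
    have e2 : lk pq.2 y = y' := hinj _ h11 _ hy' (h12.symm.trans h8)
    have h13 := (allB_iff _ _).1 (hR pq hpq) x hx
    rw [forceB_eq, forceB_eq] at h13
    have h14 := (beqb_iff _ _).1 ((allB_iff _ _).1 h13 y hy)
    rw [e1, e2] at h14
    exact h14)
  have hword : ∀ w ∈ KW, Cor G F M (ev (snds w)) := by
    intro w hw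
    refine Cor.ev fun Q hQ => ?_
    obtain ⟨P, hP⟩ := mem_snds hQ
    exact hPQ _ (hKW w hw _ hP)
  let K := KK hcl hinj (lab bs)
  have hwK : ∀ w ∈ KW, ∃ g ∈ K, ∀ x < M, ev (snds w) x < M ∧ g • F x = F (ev (snds w) x) := by
    intro w hw
    obtain ⟨g, hg⟩ := hword w hw
    have h7 := (allL_iff _ _).1 h3 w hw
    unfold chkW at h7
    rw [band_eq_true] at h7
    have h8 : ev (snds w) 0 = 0 := Nat.eq_of_beq_eq_true h7.1
    refine ⟨g, ⟨?_, ?_⟩, hg⟩
    · have h9 := (hg 0 hM).2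
      rwa [h8] at h9
    · intro x hx y hy hxy
      have h9 := hg x hx
      rw [h9.2] at hxy
      rw [← hinj _ h9.1 _ hy hxy]
      exact Nat.eq_of_beq_eq_true ((allB_iff _ _).1 h7.2 x hx)
  unfold chkF at h4
  rw [allB_iff] at h4
  have hreachG : ∀ x, x < M → ∃ g : G, g • F 0 = F x := by
    intro x
    induction x using Nat.strong_induction_on with
    | _ x ih =>
      intro hx
      have h7 := h4 x hx
      rw [bor_iff, forceB_eq, band_eq_true, bor_iff, band_eq_true, band_eq_true, anyB_iff, anyB_iff] at h7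
      rcases h7 with h7 | ⟨h7, h8⟩
      · rw [Nat.eq_of_beq_eq_true h7]
        exact ⟨1, one_smul _ _⟩
      · have h9 : pr x < x := Nat.blt_eq ▸ h7
        obtain ⟨g, hg⟩ := ih _ h9 (h9.trans hx)
        rcases h8 with ⟨-, w, hw, h8⟩ | ⟨-, pq, hpq, h8⟩
        · obtain ⟨k, -, hk⟩ := hwK w hw
          refine ⟨k * g, ?_⟩
          rw [mul_smul, hg, (hk _ (h9.trans hx)).2, Nat.eq_of_beq_eq_true h8]
        · obtain ⟨k, hk⟩ := hPQ pq hpq
          refine ⟨k * g, ?_⟩
          rw [mul_smul, hg, (hk _ (h9.trans hx)).2, Nat.eq_of_beq_eq_true h8]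
  have hreachK : ∀ x, x < M → ∃ g ∈ K, g • F (rt bs (lab bs x)) = F x := by
    intro x
    induction x using Nat.strong_induction_on with
    | _ x ih =>
      intro hx
      have h7 := h4 x hx
      rw [bor_iff, forceB_eq, band_eq_true, bor_iff, band_eq_true, band_eq_true, anyB_iff, anyB_iff] at h7
      rcases h7 with h7 | ⟨h7, h8⟩
      · rw [Nat.eq_of_beq_eq_true h7, hlab0]
        exact ⟨1, K.one_mem, one_smul _ _⟩
      · have h9 : pr x < x := Nat.blt_eq ▸ h7
        rcases h8 with ⟨h10, w, hw, h8⟩ | ⟨h10, -⟩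
        · obtain ⟨g, hg, hgx⟩ := ih _ h9 (h9.trans hx)
          obtain ⟨k, hkK, hk⟩ := hwK w hw
          refine ⟨k * g, K.mul_mem hkK hg, ?_⟩
          rw [← Nat.eq_of_beq_eq_true h10, mul_smul, hgx, (hk _ (h9.trans hx)).2, Nat.eq_of_beq_eq_true h8]
        · rw [Nat.eq_of_beq_eq_true h10]
          exact ⟨1, K.one_mem, one_smul _ _⟩
  unfold chkK at h5
  rw [band_eq_true, band_eq_true, allB_iff, allB_iff, allB_iff] at h5
  obtain ⟨h5a, h5b, h5c⟩ := h5
  have hlt : ∀ x < M, lab bs x < n := fun x hx => Nat.blt_eq ▸ h5a x hx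
  have hrt : ∀ j < n, rt bs j < M := fun j hj => Nat.blt_eq ▸ h5b j hj
  have hc0 : (⟨lab bs 0, hlt 0 hM⟩ : Fin n) = ⟨0, hn⟩ := Fin.ext hlab0
  refine kernel_of_index (G := G) (Y := Y N) (M := M) (n := n) (fun x => F x) ?_ ⟨0, hM⟩ ?_ ?_ K ?_
    (fun x => ⟨lab bs x, hlt x x.2⟩) (fun j => ⟨rt bs j, hrt j j.2⟩) ?_ ?_
    (fun x y => tb (row x) y) ?_ (fun i j => B i j) ?_ (fun j => kk j) ?_ a t hBa ?_ ?_
  · intro x y hxy
    exact Fin.ext (hinj x x.2 y y.2 hxy)
  · intro g x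
    obtain ⟨y, hy, h⟩ := hcl g x x.2
    exact ⟨⟨y, hy⟩, h⟩
  · intro x
    exact hreachG x x.2
  · intro g hg
    exact hg.1
  · intro g hg x y hxy
    exact Fin.ext (hg.2 x x.2 y y.2 hxy)
  · intro x
    exact hreachK x x.2
  · intro g x y x' y' h7 h8
    exact hrel g x x.2 y y.2 x' x'.2 y' y'.2 h7 h8
  · intro i j
    unfold chkBR at h6
    rw [allB_iff] at h6
    have h7 := h6 i i.2
    rw [forceB_eq, allB_iff] at h7
    have h8 := (cntB_iff _ _ _).1 (h7 j j.2)
    rw [← card_fin] at h8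
    rw [← h8]
    congr 1
    ext y
    simp only [Finset.mem_filter, Finset.mem_univ, true_and]
    rw [band_eq_true]
    constructor
    · rintro ⟨h9, h10⟩
      refine ⟨?_, h9⟩
      have h11 : lab bs y = j := congrArg Fin.val h10
      rw [h11]
      exact Nat.beq_refl _
    · rintro ⟨h9, h10⟩
      exact ⟨h10, Fin.ext (Nat.eq_of_beq_eq_true h9)⟩
  · intro j
    have h8 := (cntB_iff _ _ _).1 (h5c j j.2)
    rw [← card_fin] at h8
    rw [← h8]
    congr 1
    ext y
    simp only [Finset.mem_filter, Finset.mem_univ, true_and]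
    constructor
    · intro h
      have h11 : lab bs y = j := congrArg Fin.val h
      rw [h11]
      exact Nat.beq_refl _
    · intro h
      exact Fin.ext (Nat.eq_of_beq_eq_true h)
  · intro a' h i
    show a' i = a' ⟨lab bs 0, hlt 0 hM⟩ * a i
    rw [hc0]
    exact huniq a' h i
  · show a ⟨lab bs 0, hlt 0 hM⟩ = 1
    rw [hc0]
    exact ha

end tables

namespace JTwo

open Cfsg.Agent.SporadicA.J2Data Cfsg.Agent.SporadicA.J2Hundred Cfsg.Agent.H678.DG.JTwoData
  Cfsg.Agent.H678.DG.Blk Cfsg.Agent.H678.DG.JTwoDeg Cfsg.Agent.H678.S8.JTwoRel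

/-- the rows of the relation -/
def row (x : ℕ) : ℕ := Nat.land (Nat.shiftRight RM (Nat.mul 315 x)) 66749594872528440074844428317798503581334516323645399060845050244444366430645017188217565216767

/-- the collapsed matrix -/
def B32 (i j : ℕ) : ℕ := ([[0, 32, 0, 0, 0, 0], [1, 5, 20, 5, 1, 0], [0, 8, 8, 16, 0, 0], [0, 1, 8, 17, 5, 1],
  [0, 1, 0, 25, 1, 5], [0, 0, 0, 16, 16, 0]].getD i []).getD j 0

theorem rA : chkR 315 row qA = true := by decide +kernel
theorem rB : chkR 315 row qB = true := by decide +kernel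
theorem rC : chkR 315 row qC = true := by decide +kernel
theorem rD : chkR 315 row qD = true := by decide +kernel
theorem rE : chkR 315 row qE = true := by decide +kernel

theorem hR : ∀ pq ∈ PQ, chkR 315 row pq.2 = true := by
  intro pq h
  simp only [PQ, List.mem_cons, List.not_mem_nil, or_false] at h
  rcases h with rfl | rfl | rfl | rfl | rfl
  exacts [rA, rB, rC, rD, rE]

theorem cBR : chkBR 315 6 row bs B32 = true := by decide +kernel

theorem uniq {r a0 a1 a2 a3 a4 a5 : ℂ} (hr : r ^ 2 = 5)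
    (h0 : 32 * a1 = (2 + 6 * r) * a0)
    (h1 : a0 + 5 * a1 + 20 * a2 + 5 * a3 + a4 = (2 + 6 * r) * a1)
    (h2 : 8 * a1 + 8 * a2 + 16 * a3 = (2 + 6 * r) * a2)
    (h3 : a1 + 8 * a2 + 17 * a3 + 5 * a4 + a5 = (2 + 6 * r) * a3)
    (h4 : a1 + 25 * a3 + a4 + 5 * a5 = (2 + 6 * r) * a4) :
    a1 = a0 * ((1 + 3 * r) / 16) ∧ a2 = a0 * (1 / 4) ∧ a3 = a0 * (-1 / 8) ∧ a4 = a0 * ((1 - 3 * r) / 16) ∧
      a5 = a0 * (-1 / 2) := by
  refine ⟨?_, ?_, ?_, ?_, ?_⟩
  · linear_combination ((1/32) + (0) * r) * h0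
  · linear_combination ((-111/33440) + (5059/501600) * r) * h0 + ((48/1045) + (4/15675) * r) * h1 + ((-3/1672) + (-157/25080) * r) * h2 + ((-5/418) + (17/6270) * r) * h3 + ((1/418) + (-17/31350) * r) * h4 + ((5059/83600) * a0 + (8/5225) * a1 + (-157/4180) * a2 + (17/1045) * a3 + (-17/5225) * a4) * hr
  · linear_combination ((303/66880) + (-1681/334400) * r) * h0 + ((-7/418) + (179/10450) * r) * h1 + ((43/836) + (7/4180) * r) * h2 + ((2/209) + (-23/4180) * r) * h3 + ((-2/1045) + (23/20900) * r) * h4 + ((-5043/167200) * a0 + (537/5225) * a1 + (21/2090) * a2 + (-69/2090) * a3 + (69/10450) * a4) * hr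
  · linear_combination ((-669/13376) + (2191/200640) * r) * h0 + ((69/418) + (-569/6270) * r) * h1 + ((-185/836) + (293/2508) * r) * h2 + ((40/209) + (-67/2508) * r) * h3 + ((-8/209) + (67/12540) * r) * h4 + ((2191/33440) * a0 + (-569/1045) * a1 + (293/418) * a2 + (-67/418) * a3 + (67/2090) * a4) * hr
  · linear_combination ((89/3344) + (-8201/250800) * r) * h0 + ((-447/1045) + (1478/15675) * r) * h1 + ((167/418) + (-1571/6270) * r) * h2 + ((-71/418) + (1579/6270) * r) * h3 + ((489/2090) + (-1579/31350) * r) * h4 + ((-8201/41800) * a0 + (2956/5225) * a1 + (-1571/1045) * a2 + (1579/1045) * a3 + (-1579/5225) * a4) * hr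

/-- **Degree 14.** -/
theorem deg_14' : ∃ χ : IrrCharacter G, charDegree (χ : G → ℂ) = 14 := by
  have hr : ((Real.sqrt 5 : ℝ) : ℂ) ^ 2 = 5 := by
    rw [← Complex.ofReal_pow, Real.sq_sqrt (by norm_num)]
    norm_num
  obtain ⟨χ, hχ⟩ := kernel_of_tables (rfl : G = Subgroup.closure gens) hGT hin hKW (by norm_num) rfl c1 c2 c3 c4 c5 row
    hR cBR (by norm_num)
    ![1, (1 + 3 * ((Real.sqrt 5 : ℝ) : ℂ)) / 16, 1 / 4, -1 / 8, (1 - 3 * ((Real.sqrt 5 : ℝ) : ℂ)) / 16, -1 / 2]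
    (2 + 6 * ((Real.sqrt 5 : ℝ) : ℂ)) (by
      intro i
      fin_cases i <;> simp [Fin.sum_univ_succ, B32] <;> ring_nf <;> (try rw [hr]) <;> ring) (by
      intro a' h i
      have e0 := h 0
      have e1 := h 1
      have e2 := h 2
      have e3 := h 3
      have e4 := h 4
      simp [Fin.sum_univ_succ, B32] at e0 e1 e2 e3 e4
      obtain ⟨u1, u2, u3, u4, u5⟩ := uniq (a0 := a' 0) (a1 := a' 1) (a2 := a' 2) (a3 := a' 3) (a4 := a' 4)
        (a5 := a' 5) hr (by linear_combination e0) (by linear_combination e1) (by linear_combination e2)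
        (by linear_combination e3) (by linear_combination e4)
      fin_cases i
      · simp
      · exact u1
      · exact u2
      · exact u3
      · exact u4
      · exact u5) rfl
  refine ⟨χ, ?_⟩
  have h1 : ∑ j : Fin 6, (kk j : ℂ) * ((![1, (1 + 3 * ((Real.sqrt 5 : ℝ) : ℂ)) / 16, 1 / 4, -1 / 8,
      (1 - 3 * ((Real.sqrt 5 : ℝ) : ℂ)) / 16, -1 / 2] : Fin 6 → ℂ) j *
      conj ((![1, (1 + 3 * ((Real.sqrt 5 : ℝ) : ℂ)) / 16, 1 / 4, -1 / 8,
      (1 - 3 * ((Real.sqrt 5 : ℝ) : ℂ)) / 16, -1 / 2] : Fin 6 → ℂ) j)) = 45 / 2 := by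
    simp [Fin.sum_univ_succ, kk]
    rw [show (starRingEnd ℂ) 3 = 3 from map_ofNat _ 3, show (starRingEnd ℂ) 16 = 16 from map_ofNat _ 16,
      show (starRingEnd ℂ) 4 = 4 from map_ofNat _ 4, show (starRingEnd ℂ) 8 = 8 from map_ofNat _ 8,
      show (starRingEnd ℂ) 2 = 2 from map_ofNat _ 2]
    ring_nf
    rw [hr]
    norm_num
  rw [h1] at hχ
  have h2 : (charDegree (χ : G → ℂ) : ℂ) = 14 := by
    push_cast at hχ
    linear_combination (2 / 45) * hχ
  exact_mod_cast h2

theorem deg_14 : 14 ∈ charDegrees G := deg_14'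

end JTwo

end Cfsg.Agent.H678.S8
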